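import Groth.Agent.Sga7.H744.HcEq
import Groth.Agent.Sga7.H169.DeltaTower
import Mathlib.Algebra.Homology.DerivedCategory.Ext.ExactSequences

/-!
# Endomorphisms acting trivially on `H¹(Y, ℤ/ℓ)` have `ℓ`-power order on `H¹(Y, ℤ/ℓ^ν)`

* `hc_map`: naturality of `hc` in the coefficients;
* `exists_pow_act`.
-/

set_option autoImplicit false
set_option backward.isDefEq.respectTransparency.types false
universe u

open CategoryTheory CategoryTheory.Limits AlgebraicGeometry Opposite CategoryTheory.Abelian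
open scoped Groth.Agent.Etcore.EtInst

namespace Groth.Agent.Sga7.H30.PowAct

open Groth.Agent.Etcore.EtInst Groth.Agent.Etcore.HpullCalc
open Groth.Agent.Sga7.H744.HcFun Groth.Agent.Sga7.H744.CohConst
open Groth.Agent.Sga7.H169.DeltaTower

section Algebra

variable {A B C : Type*} [AddCommGroup A] [AddCommGroup B] [AddCommGroup C]

theorem mul_app (S T : AddMonoid.End B) (y : B) : (S * T) y = S (T y) := rfl

/-- An endomorphism of `B` which is trivial on `A` and on `B / A` is killed by `l` if `A` is. -/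
theorem pow_eq_one (i : A →+ B) (π : B →+ C) (hex : ∀ y, π y = 0 → ∃ x, i x = y)
    (T : AddMonoid.End B) (hT : ∀ x, T (i x) = i x) (hT' : ∀ y, π (T y) = π y) (l : ℕ)
    (hl : ∀ x : A, l • x = 0) : T ^ l = 1 := by
  refine DFunLike.ext _ _ fun y => ?_
  obtain ⟨x, hx⟩ := hex (T y - y) (by rw [map_sub, hT', sub_self])
  have hy : T y = y + i x := by rw [hx, add_sub_cancel]
  have key : ∀ k : ℕ, (T ^ k) y = y + k • i x := by
    intro k
    induction k with
    | zero => rw [pow_zero, zero_smul, add_zero]; rfl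
    | succ k ih =>
      rw [pow_succ', mul_app, ih, map_add, map_nsmul, hT, hy, add_assoc,
        succ_nsmul, add_comm (i x)]
  rw [key l, ← map_nsmul, hl, map_zero, add_zero]
  rfl

theorem pow_apply_of_fixed (T : AddMonoid.End B) (y : B) (h : T y = y) (k : ℕ) :
    (T ^ k) y = y := by
  induction k with
  | zero => rfl
  | succ k ih => rw [pow_succ, mul_app, h, ih]

theorem pow_comm (π : B →+ C) (T : AddMonoid.End B) (S : AddMonoid.End C)
    (h : ∀ y, π (T y) = S (π y)) (k : ℕ) (y : B) : π ((T ^ k) y) = (S ^ k) (π y) := by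
  induction k generalizing y with
  | zero => rfl
  | succ k ih => rw [pow_succ, mul_app, ih, h, pow_succ, mul_app]

end Algebra

section Const

/-- The constant sheaf functor. -/
noncomputable abbrev cst (X : Scheme.{u}) : AddCommGrpCat.{u + 1} ⥤ EtCoh.Ab X :=
  constantSheaf X.smallEtaleTopology AddCommGrpCat.{u + 1}

theorem preservesFiniteLimits_cst (X : Scheme.{u}) : PreservesFiniteLimits (cst X) := by
  delta cst constantSheaf
  infer_instance

theorem preservesFiniteColimits_cst (X : Scheme.{u}) : PreservesFiniteColimits (cst X) :=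
  have : PreservesColimitsOfSize.{0, 0} (cst X) := (EtCore.constAdj X).leftAdjoint_preservesColimits
  PreservesColimitsOfSize.preservesFiniteColimits _

attribute [local instance] preservesFiniteLimits_cst preservesFiniteColimits_cst

theorem additive_cst (X : Scheme.{u}) : (cst X).Additive :=
  have : (EtCore.gsec X).Additive := ⟨fun {_ _ _ _} => rfl⟩
  (EtCore.constAdj X).left_adjoint_additive

attribute [local instance] additive_cst

/-- The map on cohomology defined by a homomorphism of coefficient groups. -/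
noncomputable def cmap (X : Scheme.{u}) {M N : Type} [AddCommGroup M] [AddCommGroup N]
    (f : M →+ N) (q : ℕ) : HH X (EtCoh.const X M) q →+ HH X (EtCoh.const X N) q :=
  HHmap ((cst X).map (up f)) q

theorem cmap_apply (X : Scheme.{u}) {M N : Type} [AddCommGroup M] [AddCommGroup N]
    (f : M →+ N) (q : ℕ) (x : HH X (EtCoh.const X M) q) :
    cmap X f q x = HHmap ((cst X).map (up f)) q x := rfl

variable {X Y : Scheme.{u}}

/-- `hc` is natural in the coefficients. -/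
theorem hc_map (g : X ⟶ Y) {M N : Type} [AddCommGroup M] [AddCommGroup N] (f : M →+ N) (q : ℕ)
    (x : HH Y (EtCoh.const Y M) q) :
    hc g N q (cmap Y f q x) = cmap X f q (hc g M q x) := by
  rw [hc_apply, hc_apply, cmap_apply, cmap_apply, hp_map, ← HHmap_comp, ← HHmap_comp]
  exact congrArg (fun k => HHmap k q (hp g (EtCoh.const Y M) q x))
    ((EtCore.pullConstIso g).hom.naturality (up f))

/-- Cohomology with coefficients in a group killed by `n` is killed by `n`. -/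
theorem nsmul_eq_zero {M : Type} [AddCommGroup M] {n : ℕ} (h : ∀ m : M, n • m = 0) (q : ℕ)
    (x : HH Y (EtCoh.const Y M) q) : n • x = 0 := by
  have h1 : (n • 𝟙 (EtCoh.const Y M) : EtCoh.const Y M ⟶ EtCoh.const Y M) = 0 := by
    have h2 : n • 𝟙 (AddCommGrpCat.of (ULift.{u + 1} M)) = 0 := by
      rw [← up_nsmul_id]
      have h3 : n • AddMonoidHom.id M = 0 := AddMonoidHom.ext fun m => h m
      rw [h3, up_zero]
    have h4 : n • 𝟙 ((cst Y).obj (AddCommGrpCat.of (ULift.{u + 1} M))) = 0 := by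
      rw [← CategoryTheory.Functor.map_id, ← Functor.map_nsmul, h2, Functor.map_zero]
    exact h4
  let φ : (EtCoh.const Y M ⟶ EtCoh.const Y M) →+ HH Y (EtCoh.const Y M) q :=
    AddMonoidHom.mk' (fun f => HHmap f q x)
      (fun f g => by rw [HHmap_apply, HHmap_apply, HHmap_apply, Ext.mk₀_add, Ext.comp_add])
  have h2 : φ (𝟙 _) = x := HHmap_id _ q x
  rw [← h2, ← map_nsmul, h1, map_zero]

/-- Exactness in the middle for `ℤ/p^a → ℤ/p^(a+b) → ℤ/p^b`. -/
theorem exists_cmap_eq {p : ℕ} (hp : p ≠ 0) (a b q : ℕ)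
    (y : HH Y (EtCoh.const Y (ZMod (p ^ (a + b)))) q)
    (hy : cmap Y (redZ p (Nat.le_add_left b a)) q y = 0) :
    ∃ x : HH Y (EtCoh.const Y (ZMod (p ^ a))) q, cmap Y (incZ p a b) q x = y :=
  Ext.covariant_sequence_exact₂ (EtCoh.const Y ℤ) ((ses_shortExact hp a b).map_of_exact (cst Y)) y hy

end Const

variable {Y : Scheme.{u}}

/-- The endomorphism `hc s`. -/
noncomputable def hcE (s : Y ⟶ Y) (M : Type) [AddCommGroup M] (q : ℕ) :
    AddMonoid.End (HH Y (EtCoh.const Y M) q) := hc s M q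

theorem hcE_apply (s : Y ⟶ Y) (M : Type) [AddCommGroup M] (q : ℕ)
    (x : HH Y (EtCoh.const Y M) q) : hcE s M q x = hc s M q x := rfl

theorem cmap_hcE (s : Y ⟶ Y) {M N : Type} [AddCommGroup M] [AddCommGroup N] (f : M →+ N) (q : ℕ)
    (x : HH Y (EtCoh.const Y M) q) :
    cmap Y f q (hcE s M q x) = hcE s N q (cmap Y f q x) := (hc_map s f q x).symm

/-- The statement for `hc`, all degrees. -/
theorem exists_hcE_pow (s : Y ⟶ Y) (ℓ : ℕ) (hℓ : ℓ ≠ 0) (q : ℕ)
    (h : ∀ x, hcE s (ZMod (ℓ ^ 1)) q x = x) (ν : ℕ) :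
    ∃ j : ℕ, hcE s (ZMod (ℓ ^ ν)) q ^ (ℓ ^ j) = 1 := by
  induction ν with
  | zero =>
    have h0 : ∀ z : HH Y (EtCoh.const Y (ZMod (ℓ ^ 0))) q, z = 0 := fun z => by
      have h1 := nsmul_eq_zero (Y := Y) (M := ZMod (ℓ ^ 0)) (n := 1) (fun m => by
        have : Subsingleton (ZMod (ℓ ^ 0)) := by rw [pow_zero]; infer_instance
        exact Subsingleton.elim _ _) q z
      rwa [one_smul] at h1
    exact ⟨0, AddMonoidHom.ext fun x => (h0 _).trans (h0 _).symm⟩
  | succ ν ih =>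
    obtain ⟨j, hj⟩ := ih
    rw [add_comm ν 1]
    refine ⟨j + 1, ?_⟩
    rw [pow_succ, pow_mul]
    refine pow_eq_one (cmap Y (incZ ℓ 1 ν) q) (cmap Y (redZ ℓ (Nat.le_add_left ν 1)) q)
      (fun y hy => exists_cmap_eq hℓ 1 ν q y hy) _ (fun x => ?_) (fun y => ?_) ℓ
      (fun x => nsmul_eq_zero (fun m => ?_) q x)
    · refine pow_apply_of_fixed _ _ ?_ _
      rw [← cmap_hcE]
      exact congrArg _ (h x)
    · rw [pow_comm _ _ (hcE s (ZMod (ℓ ^ ν)) q) (fun y => cmap_hcE s _ q y), hj]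
      rfl
    · rw [nsmul_eq_mul]
      have : ((ℓ : ℕ) : ZMod (ℓ ^ 1)) = 0 := by
        rw [pow_one]
        exact ZMod.natCast_self ℓ
      rw [this, zero_mul]

/-- The endomorphism `Hc s`. -/
noncomputable def HcE (s : Y ⟶ Y) (M : Type) [AddCommGroup M] (q : ℕ) :
    AddMonoid.End (EtCoh.H Y (EtCoh.const Y M) q) := Hc s M q

theorem HcE_apply (s : Y ⟶ Y) (M : Type) [AddCommGroup M] (q : ℕ)
    (x : EtCoh.H Y (EtCoh.const Y M) q) : HcE s M q x = Hc s M q x := rfl

theorem HcE_pow_apply (s : Y ⟶ Y) (M : Type) [AddCommGroup M] (q n : ℕ)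
    (x : EtCoh.H Y (EtCoh.const Y M) q) : (HcE s M q ^ n) x = (Hc s M q)^[n] x := by
  induction n generalizing x with
  | zero => rfl
  | succ n ih => rw [pow_succ, mul_app, ih, Function.iterate_succ_apply, HcE_apply]

theorem iterate_eq (s : Y ⟶ Y) (M : Type) [AddCommGroup M] (q n : ℕ)
    (x : HH Y (EtCoh.const Y M) q) :
    @Eq (HH Y (EtCoh.const Y M) q) ((Hc s M q)^[n] x) ((hcE s M q ^ n) x) := by
  induction n with
  | zero => rfl
  | succ n ih =>
    have h1 : (Hc s M q)^[n + 1] x = Hc s M q ((Hc s M q)^[n] x) :=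
      Function.iterate_succ_apply' _ _ _
    have h2 : (hcE s M q ^ (n + 1)) x = hc s M q ((hcE s M q ^ n) x) := by
      rw [pow_succ']
      rfl
    have h3 := Groth.Agent.Sga7.H744.HcEq.Hc_apply s M q ((Hc s M q)^[n] x)
    exact h1.trans (h3.trans ((congrArg (fun y => hc s M q y) ih).trans h2.symm))

/-- General degree, iterates. -/
theorem exists_iterate_eq (s : Y ⟶ Y) (ℓ : ℕ) (hℓ : ℓ ≠ 0) (q : ℕ)
    (h : Hc s (ZMod ℓ) q = AddMonoidHom.id _) (ν : ℕ) :
    ∃ j : ℕ, ∀ x, (Hc s (ZMod (ℓ ^ ν)) q)^[ℓ ^ j] x = x := by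
  have h0 : ∀ m : ℕ, m = ℓ → Hc s (ZMod m) q = AddMonoidHom.id _ := by
    rintro m rfl
    exact h
  obtain ⟨j, hj⟩ := exists_hcE_pow s ℓ hℓ q (fun x =>
    Groth.Agent.Sga7.H744.HcEq.hc_eq_of_Hc_eq_id s (ZMod (ℓ ^ 1)) q (h0 _ (pow_one ℓ)) x) ν
  exact ⟨j, fun x => (iterate_eq s (ZMod (ℓ ^ ν)) q (ℓ ^ j) x).trans (DFunLike.congr_fun hj x)⟩

/-- General degree, powers in `AddMonoid.End`. -/
theorem exists_pow_act_deg (s : Y ⟶ Y) (ℓ : ℕ) (hℓ : ℓ ≠ 0) (q : ℕ)
    (h : Hc s (ZMod ℓ) q = AddMonoidHom.id _) (ν : ℕ) :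
    ∃ j : ℕ, (show AddMonoid.End (EtCoh.H Y (EtCoh.const Y (ZMod (ℓ ^ ν))) q) from
      Hc s (ZMod (ℓ ^ ν)) q) ^ (ℓ ^ j) = 1 := by
  obtain ⟨j, hj⟩ := exists_iterate_eq s ℓ hℓ q h ν
  exact ⟨j, AddMonoidHom.ext fun x => (HcE_pow_apply s _ q (ℓ ^ j) x).trans (hj x)⟩

/-- **(F1)** trivial on `H¹(Y, ℤ/ℓ)` implies `ℓ`-power order on `H¹(Y, ℤ/ℓ^ν)`. -/
theorem exists_pow_act {Y : Scheme.{u}} (s : Y ⟶ Y) (ℓ : ℕ) (hℓ : ℓ.Prime)
    (h : Hc s (ZMod ℓ) 1 = AddMonoidHom.id _) (ν : ℕ) :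
    ∃ j : ℕ, (show AddMonoid.End (EtCoh.H Y (EtCoh.const Y (ZMod (ℓ ^ ν))) 1) from
      Hc s (ZMod (ℓ ^ ν)) 1) ^ (ℓ ^ j) = 1 :=
  exists_pow_act_deg s ℓ hℓ.ne_zero 1 h ν

end Groth.Agent.Sga7.H30.PowAct
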